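import Groth.Agent.ProperBC13.Bridge

/-!
# Base change of the underlying sheaves of sets
-/

set_option autoImplicit false
set_option linter.style.haveILetI false

universe u

open CategoryTheory CategoryTheory.Limits AlgebraicGeometry Opposite
open Groth.Agent.BigSiteLib.DescSec

namespace Groth.Agent.ProperBC13

set_option backward.isDefEq.respectTransparency.types false

open HenselConn

variable {X Y X' Y' : Scheme.{u}} (f : X ⟶ Y) (g : Y' ⟶ Y) (f' : X' ⟶ Y') (g' : X' ⟶ X)

/-- A map of abelian sheaves which agrees with base change on units is base change of sets. -/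
theorem setA_eq_baseChange0Sh (H : IsPullback g' f' f g) (F : EtCoh.Ab X)
    (β : (EtCoh.pull g).obj ((EtCoh.push f).obj F) ⟶ (EtCoh.push f').obj ((EtCoh.pull g').obj F))
    (hβ : ∀ V : Y.Etale,
      ((EtCoh.pullPushAdj g).unit.app ((EtCoh.push f).obj F)).hom.app (op V) ≫ β.hom.app (op ((EtCoh.bc g).obj V)) =
        ((EtCoh.pullPushAdj g').unit.app F).hom.app (op ((EtCoh.bc f).obj V)) ≫
          ((EtCoh.pull g').obj F).obj.map (EtFound.bcSquare H.w V).op) :
    cmpF g ((EtCoh.push f).obj F) ≫
        (sheafCompose Y'.smallEtaleTopology (CategoryTheory.forget AddCommGrpCat.{u + 1})).map β =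
      EtBC.baseChange0Sh f g f' g' H.w (setA F) ≫ (EtDesc.pushSh f').map (cmpF g' F) := by
  refine ((EtDesc.adjSh g).homEquiv (setA ((EtCoh.push f).obj F)) _).injective ?_
  rw [Adjunction.homEquiv_unit, Adjunction.homEquiv_unit]
  ext1; ext1; funext U
  obtain ⟨V⟩ := U
  ext a
  have h1 : (EtBC.baseChange0Sh f g f' g' H.w (setA F)).hom.app (op ((EtCoh.bc g).obj V))
      (up g ((EtDesc.pushSh f).obj (setA F)) V a) =
      trA f g f' g' H.w (setA F) (𝟙 ((EtCoh.bc g).obj V)) a := by
    have h := baseChange_up f g f' g' H.w (setA F) (𝟙 ((EtCoh.bc g).obj V)) a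
    rwa [op_id, CategoryTheory.Functor.map_id] at h
  show β.hom.app _ ((cmpF g _).hom.app _ (up g (setA ((EtCoh.push f).obj F)) V a)) =
    (cmpF g' F).hom.app _ ((EtBC.baseChange0Sh f g f' g' H.w (setA F)).hom.app (op ((EtCoh.bc g).obj V))
      (up g ((EtDesc.pushSh f).obj (setA F)) V a))
  rw [h1, cmpF_up]
  refine (ConcreteCategory.congr_hom (hβ V) a).trans ?_
  show _ = (cmpF g' F).hom.app _ (trA f g f' g' H.w (setA F) (𝟙 _) a)
  rw [trA]
  refine Eq.trans ?_ (NatTrans.naturality_apply (cmpF g' F).hom _ _).symm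
  rw [CategoryTheory.Functor.map_id, Category.id_comp]
  exact congrArg (((EtCoh.pull g').obj F).obj.map (EtFound.bcSquare H.w V).op) (cmpF_up g' F _ a).symm

end Groth.Agent.ProperBC13
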