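import Groth.Agent.HenselConn.BaseChange
import Groth.Agent.BigSiteLib.EtDescSec.SecBC
import Groth.Agent.EtFound.AbLocEq
import Groth.Agent.EtFound.SpectralSections
import Mathlib.CategoryTheory.Sites.LocallyInjective
import Mathlib.Algebra.Category.Grp.Adjunctions

/-!
# Inverse images of abelian sheaves and of their sheaves of sets
-/

set_option autoImplicit false
set_option linter.style.haveILetI false

universe u

open CategoryTheory CategoryTheory.Limits AlgebraicGeometry Opposite
open Groth.Agent.BigSiteLib.DescSec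

namespace Groth.Agent.ProperBC13

set_option backward.isDefEq.respectTransparency.types false

variable {X Y : Scheme.{u}}

/-- The sheaf of sets of an abelian sheaf. -/
noncomputable abbrev setA (F : EtCoh.Ab X) : EtDesc.Sh X :=
  (sheafCompose X.smallEtaleTopology (CategoryTheory.forget AddCommGrpCat.{u + 1})).obj F

variable (g : Y ⟶ X) (F : EtCoh.Ab X)

/-- The unit of the abelian inverse image, as a map of sheaves of sets. -/
noncomputable def unitSet : setA F ⟶ (EtDesc.pushSh g).obj (setA ((EtCoh.pull g).obj F)) :=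
  ⟨Functor.whiskerRight ((EtCoh.pullPushAdj g).unit.app F).hom (CategoryTheory.forget AddCommGrpCat.{u + 1})⟩

/-- The comparison of inverse images. -/
noncomputable def cmpF : (EtDesc.pullSh g).obj (setA F) ⟶ setA ((EtCoh.pull g).obj F) :=
  ((EtDesc.adjSh g).homEquiv (setA F) _).symm (unitSet g F)

theorem cmpF_up (U : X.Etale) (a : (setA F).obj.obj (op U)) :
    (cmpF g F).hom.app (op ((EtCoh.bc g).obj U)) (up g (setA F) U a) = AbLocEq.up g F U a := by
  have e : (EtDesc.adjSh g).homEquiv (setA F) _ (cmpF g F) = unitSet g F := Equiv.apply_symm_apply _ _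
  rw [Adjunction.homEquiv_unit] at e
  exact ConcreteCategory.congr_hom (congrArg (fun α : setA F ⟶ (EtDesc.pushSh g).obj (setA ((EtCoh.pull g).obj F)) =>
    α.hom.app (op U)) e) a

theorem exists_up_eq_ab (W : Y.Etale) (s : ((EtCoh.pull g).obj F).obj.obj (op W)) (w : W.left) :
    ∃ (U : X.Etale) (a : F.obj.obj (op U)) (Z : Y.Etale) (c : Z ⟶ (EtCoh.bc g).obj U) (k : Z ⟶ W) (z : Z.left),
      k.left z = w ∧ ((EtCoh.pull g).obj F).obj.map c.op (AbLocEq.up g F U a) =
        ((EtCoh.pull g).obj F).obj.map k.op s := by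
  obtain ⟨Ω, _, _, ξ, t₀, ht₀⟩ := EtFound.exists_point_through W w
  let Φ := Scheme.pointSmallEtale ξ
  let G := (EtCoh.pull g).obj F
  let c₀ := Φ.toPresheafFiber W t₀ G.obj s
  obtain ⟨U, v, a, ha⟩ := (Scheme.pointSmallEtale (ξ ≫ g)).toPresheafFiber_jointly_surjective (P := F.obj)
    ((EtFound.sheafFiberPullIso g ξ).hom.app F c₀)
  let t := (EtFound.bcFiberEquiv g ξ U).symm v
  haveI : Etale ((EtCoh.bc g).obj U).hom := ((EtCoh.bc g).obj U).prop
  haveI : Etale W.hom := W.prop
  let Z : Y.Etale := MorphismProperty.Over.mk ⊤ (pullback.fst ((EtCoh.bc g).obj U).hom W.hom ≫ ((EtCoh.bc g).obj U).hom) (by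
    haveI : Etale (pullback.fst ((EtCoh.bc g).obj U).hom W.hom) := MorphismProperty.pullback_fst _ _ inferInstance
    exact inferInstanceAs (Etale (pullback.fst ((EtCoh.bc g).obj U).hom W.hom ≫ _)))
  let c : Z ⟶ (EtCoh.bc g).obj U := MorphismProperty.Over.homMk (pullback.fst ((EtCoh.bc g).obj U).hom W.hom) rfl
  let k : Z ⟶ W := MorphismProperty.Over.homMk (pullback.snd ((EtCoh.bc g).obj U).hom W.hom) pullback.condition.symm
  let p : Φ.fiber.obj Z := CategoryTheory.Over.homMk
    (pullback.lift (t.left : Spec (CommRingCat.of Ω) ⟶ ((EtCoh.bc g).obj U).left) (t₀.left : Spec (CommRingCat.of Ω) ⟶ W.left)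
      ((CategoryTheory.Over.w t).trans (CategoryTheory.Over.w t₀).symm))
    ((Category.assoc _ _ _).symm.trans ((congrArg (· ≫ ((EtCoh.bc g).obj U).hom) (pullback.lift_fst _ _ _)).trans (CategoryTheory.Over.w t)))
  have hc : Φ.fiber.map c p = t := CategoryTheory.Over.OverMorphism.ext (pullback.lift_fst _ _ _)
  have hk : Φ.fiber.map k p = t₀ := CategoryTheory.Over.OverMorphism.ext (pullback.lift_snd _ _ _)
  have hgerm : Φ.toPresheafFiber ((EtCoh.bc g).obj U) t G.obj (AbLocEq.up g F U a) = c₀ := by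
    have h := (ConcreteCategory.comp_apply _ _ a).symm.trans
      ((ConcreteCategory.congr_hom (EtFound.sheafFiberPullIso_germ g ξ F U t) a).trans (ConcreteCategory.comp_apply _ _ a))
    rw [show EtFound.bcFiberEquiv g ξ U t = v from Equiv.apply_symm_apply _ _] at h
    refine h.symm.trans ?_
    refine (congrArg ((EtFound.sheafFiberPullIso g ξ).inv.app F) ha).trans ?_
    exact Iso.hom_inv_id_apply ((EtFound.sheafFiberPullIso g ξ).app F) c₀
  have e : AbLocEq.AEq G.obj (G.obj.map c.op (AbLocEq.up g F U a)) (G.obj.map k.op s)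
      ((p.left : Spec (CommRingCat.of Ω) ⟶ Z.left).base (default : Spec (CommRingCat.of Ω))) := by
    refine AbLocEq.aEq_of_germ ξ p ?_ _ rfl
    rw [Φ.toPresheafFiber_w_apply, Φ.toPresheafFiber_w_apply, hc, hk]
    exact hgerm
  obtain ⟨Z', l, ⟨z', hz'⟩, e'⟩ := e
  refine ⟨U, a, Z', l ≫ c, l ≫ k, z', ?_, ?_⟩
  · refine (Scheme.Hom.comp_apply _ _ _).trans ((congrArg k.left hz').trans ?_)
    refine (Scheme.Hom.comp_apply _ _ _).symm.trans (Eq.trans ?_ (ht₀ (default : Spec (CommRingCat.of Ω))))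
    exact congrArg (fun m : Spec (CommRingCat.of Ω) ⟶ W.left => m.base (default : Spec (CommRingCat.of Ω))) (pullback.lift_snd _ _ _)
  · rw [← AbLocEq.mapP, ← AbLocEq.mapP]
    exact e'

theorem locEq_setA {U : X.Etale} {a b : F.obj.obj (op U)} {z : U.left} (h : AbLocEq.AEq F.obj a b z) :
    LocEq (setA F).obj a b z := h

theorem injective_cmpF (W : Y.Etale) (s₁ s₂ : ((EtDesc.pullSh g).obj (setA F)).obj.obj (op W))
    (e : (cmpF g F).hom.app (op W) s₁ = (cmpF g F).hom.app (op W) s₂) (w : W.left) :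
    LocEq ((EtDesc.pullSh g).obj (setA F)).obj s₁ s₂ w := by
  let G := setA F
  obtain ⟨V₁, a₁, Z₁, c₁, k₁, z₁, hz₁, he₁⟩ := HenselConn.exists_up_eq_any g G W s₁ w
  obtain ⟨V₂, a₂, Z₂, c₂, k₂, z₂, hz₂, he₂⟩ :=
    HenselConn.exists_up_eq_any g G Z₁ (((EtDesc.pullSh g).obj G).obj.map k₁.op s₂) z₁
  haveI : Etale V₁.hom := V₁.prop
  haveI : Etale V₂.hom := V₂.prop
  let V : X.Etale := MorphismProperty.Over.mk ⊤ (pullback.fst V₁.hom V₂.hom ≫ V₁.hom) (by
    haveI : Etale (pullback.fst V₁.hom V₂.hom) := MorphismProperty.pullback_fst _ _ inferInstance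
    exact inferInstanceAs (Etale (pullback.fst V₁.hom V₂.hom ≫ V₁.hom)))
  let m₁ : V ⟶ V₁ := MorphismProperty.Over.homMk (pullback.fst V₁.hom V₂.hom) rfl
  let m₂ : V ⟶ V₂ := MorphismProperty.Over.homMk (pullback.snd V₁.hom V₂.hom) pullback.condition.symm
  obtain ⟨c, hc₁, hc₂⟩ := HenselConn.exists_pair_hom g m₁ m₂ (k₂ ≫ c₁) c₂ (IsPullback.of_hasPullback V₁.hom V₂.hom)
  let b₁ := G.obj.map m₁.op a₁
  let b₂ := G.obj.map m₂.op a₂
  have f₁ : ((EtDesc.pullSh g).obj G).obj.map c.op (up g G V b₁) =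
      ((EtDesc.pullSh g).obj G).obj.map (k₂ ≫ k₁).op s₁ := by
    rw [up_map, mapF, hc₁, ← mapF, he₁, mapF]
  have f₂ : ((EtDesc.pullSh g).obj G).obj.map c.op (up g G V b₂) =
      ((EtDesc.pullSh g).obj G).obj.map (k₂ ≫ k₁).op s₂ := by
    rw [up_map, mapF, hc₂, he₂, mapF]
  have hb : ((EtCoh.pull g).obj F).obj.map c.op (AbLocEq.up g F V b₁) =
      ((EtCoh.pull g).obj F).obj.map c.op (AbLocEq.up g F V b₂) := by
    rw [← cmpF_up g F V b₁, ← cmpF_up g F V b₂]
    refine (NatTrans.naturality_apply (cmpF g F).hom c.op _).symm.trans (Eq.trans ?_ (NatTrans.naturality_apply (cmpF g F).hom c.op _))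
    rw [f₁, f₂, NatTrans.naturality_apply, NatTrans.naturality_apply, e]
  have hA : AbLocEq.AEq ((EtCoh.pull g).obj F).obj (AbLocEq.up g F V b₁) (AbLocEq.up g F V b₂) (c.left z₂) :=
    AbLocEq.AEq.of_map c ⟨Z₂, 𝟙 _, ⟨z₂, rfl⟩, congrArg _ hb⟩
  have hloc := (locEq_up g G (locEq_setA F (AbLocEq.aEq_of_up g F hA))).map c (z := z₂)
  rw [f₁, f₂] at hloc
  have := LocEq.of_map (k₂ ≫ k₁) hloc
  rwa [show (k₂ ≫ k₁).left z₂ = w from (Scheme.Hom.comp_apply _ _ _).trans ((congrArg k₁.left hz₂).trans hz₁)] at this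

/-- Inverse images commute with taking the sheaf of sets. -/
theorem isIso_cmpF : IsIso (cmpF g F) := by
  refine HenselConn.isIso_of_local _ (injective_cmpF g F) fun W t w => ?_
  obtain ⟨U, a, Z, c, k, z, hz, he⟩ := exists_up_eq_ab g F W t w
  refine ⟨Z, k, ((EtDesc.pullSh g).obj (setA F)).obj.map c.op (up g (setA F) U a), ⟨z, hz⟩, ?_⟩
  refine (NatTrans.naturality_apply (cmpF g F).hom c.op _).trans ?_
  exact (congrArg (((EtCoh.pull g).obj F).obj.map c.op) (cmpF_up g F U a)).trans he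

/-- Pullback of global sections of the sheaf of sets of an abelian sheaf. -/
theorem bijective_secPull_setA
    (h : Function.Bijective (((EtCoh.pullPushAdj g).unit.app F).hom.app (op (EtCoh.top X)))) :
    Function.Bijective (EtDesc.secPull g (setA F)) := by
  haveI := isIso_cmpF g F
  have h1 : (cmpF g F).hom.app (op (EtCoh.top Y)) ∘ EtDesc.secPull g (setA F) =
      (setA ((EtCoh.pull g).obj F)).obj.map (EtCore.bcTopIso g).inv.op ∘
        fun s => AbLocEq.up g F (EtCoh.top X) s :=
    funext fun s => (NatTrans.naturality_apply (cmpF g F).hom _ _).trans (congrArg _ (cmpF_up g F _ s))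
  have h2 : Function.Bijective ((cmpF g F).hom.app (op (EtCoh.top Y))) := by
    haveI : IsIso (cmpF g F).hom := inferInstanceAs (IsIso ((sheafToPresheaf _ _).map (cmpF g F)))
    exact (isIso_iff_bijective _).1 inferInstance
  refine (Function.Bijective.of_comp_iff' h2 _).1 ?_
  rw [h1]
  exact ((isIso_iff_bijective ((setA ((EtCoh.pull g).obj F)).obj.map (EtCore.bcTopIso g).inv.op)).1 inferInstance).comp h

/-- The free abelian sheaf on a sheaf of sets. -/
noncomputable abbrev freeAb (G : EtDesc.Sh X) : EtCoh.Ab X :=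
  (presheafToSheaf X.smallEtaleTopology AddCommGrpCat.{u + 1}).obj (G.obj ⋙ AddCommGrpCat.free.{u + 1})

/-- A sheaf of sets in its free abelian sheaf. -/
noncomputable def toFreeAb (G : EtDesc.Sh X) : G ⟶ setA (freeAb G) :=
  ⟨{ app := fun U => TypeCat.ofHom fun s =>
      (CategoryTheory.toSheafify X.smallEtaleTopology (G.obj ⋙ AddCommGrpCat.free.{u + 1})).app U (FreeAbelianGroup.of s)
     naturality := fun U V k => by
       ext s
       refine Eq.trans ?_ (NatTrans.naturality_apply (CategoryTheory.toSheafify X.smallEtaleTopology (G.obj ⋙ AddCommGrpCat.free.{u + 1})) k (FreeAbelianGroup.of s))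
       rfl }⟩

theorem injective_toFreeAb (G : EtDesc.Sh X) (W : X.Etale) :
    Function.Injective ((toFreeAb G).hom.app (op W)) := fun s t e => by
  let P := G.obj ⋙ AddCommGrpCat.free.{u + 1}
  have hS := Presheaf.equalizerSieve_mem X.smallEtaleTopology (CategoryTheory.toSheafify X.smallEtaleTopology P)
    (X := op W) (FreeAbelianGroup.of s) (FreeAbelianGroup.of t) e
  refine (((isSheaf_iff_isSheaf_of_type _ _).1 G.property).isSeparated _ hS).ext fun V k hk => ?_
  exact FreeAbelianGroup.of_injective hk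

theorem mono_toFreeAb (G : EtDesc.Sh X) : Mono (toFreeAb G) := by
  haveI : ∀ W, Mono ((toFreeAb G).hom.app W) := fun W => (mono_iff_injective _).2 (injective_toFreeAb G W.unop)
  haveI : Mono (toFreeAb G).hom := NatTrans.mono_of_mono_app _
  exact (sheafToPresheaf _ _).mono_of_mono_map (f := toFreeAb G) this

/-- Bijectivity of pullback of sections for abelian sheaves gives it for sheaves of sets. -/
theorem secPull_bijective_of_ab
    (h : ∀ F : EtCoh.Ab X, Function.Bijective (((EtCoh.pullPushAdj g).unit.app F).hom.app (op (EtCoh.top X))))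
    (G : EtDesc.Sh X) : Function.Bijective (EtDesc.secPull g G) := by
  have hinj : ∀ G : EtDesc.Sh X, Function.Injective (EtDesc.secPull g G) := fun G a b e => by
    refine injective_toFreeAb G _ ((bijective_secPull_setA g _ (h (freeAb G))).1 ?_)
    rw [← secPull_natural g (toFreeAb G) a, ← secPull_natural g (toFreeAb G) b, e]
  refine ⟨hinj G, fun ξ => ?_⟩
  haveI := mono_toFreeAb G
  obtain ⟨η, hη⟩ := (bijective_secPull_setA g _ (h (freeAb G))).2
    (((EtDesc.pullSh g).map (toFreeAb G)).hom.app (op (EtCoh.top Y)) ξ)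
  obtain ⟨x, hx⟩ := mem_range_of_secPull g hinj (toFreeAb G) η ξ hη.symm
  haveI := mono_pull g (toFreeAb G)
  refine ⟨x, injective_app_of_mono ((EtDesc.pullSh g).map (toFreeAb G)) _ ?_⟩
  rw [secPull_natural, hx, hη]

end Groth.Agent.ProperBC13
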