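import Groth.Agent.ProperBC13.SetA
import Groth.Agent.HenselConn.DiscreteGeom

/-!
# Base change of abelian sheaves from base change of sheaves of sets
-/

set_option autoImplicit false
set_option linter.style.haveILetI false

universe u

open CategoryTheory CategoryTheory.Limits AlgebraicGeometry Opposite

namespace Groth.Agent.ProperBC13

set_option backward.isDefEq.respectTransparency.types false

variable {X Y X' Y' : Scheme.{u}} (f : X ⟶ Y) (g : Y' ⟶ Y) (f' : X' ⟶ Y') (g' : X' ⟶ X)
  (H : IsPullback g' f' f g)

/-- Base change of abelian sheaves is invertible when it is for the sheaves of sets. -/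
theorem isIso_baseChange0_of_sets (F : EtCoh.Ab X) [IsIso (EtBC.baseChange0Sh f g f' g' H.w (setA F))] :
    IsIso (EtCoh.baseChange0 f g f' g' H.w F) := by
  haveI := isIso_cmpF g ((EtCoh.push f).obj F)
  haveI := isIso_cmpF g' F
  haveI : IsIso ((EtDesc.pushSh f').map (cmpF g' F)) := Functor.map_isIso _ _
  haveI : IsIso (cmpF g ((EtCoh.push f).obj F) ≫
      (sheafCompose Y'.smallEtaleTopology (CategoryTheory.forget AddCommGrpCat.{u + 1})).map
        (EtCoh.baseChange0 f g f' g' H.w F)) := by
    rw [setA_eq_baseChange0Sh f g f' g' H F _ fun V => EtFound.baseChange0_unit f g f' g' H.w F V]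
    exact IsIso.comp_isIso' ‹_› ‹_›
  haveI := IsIso.of_isIso_comp_left (cmpF g ((EtCoh.push f).obj F))
    ((sheafCompose Y'.smallEtaleTopology (CategoryTheory.forget AddCommGrpCat.{u + 1})).map
      (EtCoh.baseChange0 f g f' g' H.w F))
  exact isIso_of_reflects_iso _ (sheafCompose Y'.smallEtaleTopology (CategoryTheory.forget AddCommGrpCat.{u + 1}))

/-- Base change of quasi-compact quasi-separated direct images over a discrete base. -/
theorem isIso_baseChange0_of_discrete [QuasiCompact f] [QuasiSeparated f] [DiscreteTopology ↥Y] (F : EtCoh.Ab X) :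
    IsIso (EtCoh.baseChange0 f g f' g' H.w F) := by
  haveI := HenselConn.isIso_baseChange0Sh_of_uloc f g f' g' H (HenselConn.isULocZeroAcyclic_of_discrete g) (setA F)
  exact isIso_baseChange0_of_sets f g f' g' H F

end Groth.Agent.ProperBC13
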