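import Groth.Agent.ProperBC13.Bridge
import Groth.Agent.EtFound.ProperH0
import Groth.Agent.EtFound.ProperHenselConn
import Groth.Agent.GeomSep.Basic
import Groth.Agent.BigSiteLib.EtDescSec.Discrete

/-!
# Sections on proper schemes over strictly henselian local rings
-/

set_option autoImplicit false
set_option linter.style.haveILetI false

universe u

open CategoryTheory CategoryTheory.Limits AlgebraicGeometry Opposite IsLocalRing TensorProduct
open Groth.Agent.BigSiteLib.DescSec

namespace Groth.Agent.ProperBC13

set_option backward.isDefEq.respectTransparency.types false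

/-- Sections on a proper scheme over a henselian pair are those on the closed part. -/
theorem secPull_bijective_closed {A : Type u} [CommRing A] (I : Ideal A) [HenselianRing A I]
    {X Z : Scheme.{u}} (f : X ⟶ Spec (CommRingCat.of A)) [IsProper f] (i : Z ⟶ X) [IsClosedImmersion i]
    (hi : Set.range i = f ⁻¹' PrimeSpectrum.zeroLocus (I : Set A)) (G : EtDesc.Sh X) :
    Function.Bijective (EtDesc.secPull i G) :=
  secPull_bijective_of_ab i (fun F => ProperH0.bijective_unit I f i hi F) G

/-- A morphism between spectra of fields with separably closed source field is submersive with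
connected geometric fibres. -/
theorem fields_submersive_connected {k K : Type u} [Field k] [Field K] [IsSepClosed k]
    (j : Spec (CommRingCat.of K) ⟶ Spec (CommRingCat.of k)) :
    EtDesc.IsUnivSubmersive j ∧
      ∀ (Ω : Type u) [Field Ω] [IsAlgClosed Ω] (s : Spec (CommRingCat.of Ω) ⟶ Spec (CommRingCat.of k)),
        ConnectedSpace ↥(pullback j s) := by
  haveI : IsIntegral (Spec (CommRingCat.of k)) := inferInstance
  haveI : Subsingleton ↥(Spec (CommRingCat.of k)) := inferInstanceAs (Subsingleton (PrimeSpectrum k))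
  haveI : Nonempty ↥(Spec (CommRingCat.of K)) := inferInstanceAs (Nonempty (PrimeSpectrum K))
  haveI : Surjective j := ⟨fun x => ⟨Classical.arbitrary _, Subsingleton.elim _ _⟩⟩
  refine ⟨isUnivSubmersive_of_open j, fun Ω _ _ s => ?_⟩
  obtain ⟨φ, rfl⟩ := Spec.map_surjective j
  obtain ⟨ψ, rfl⟩ := Spec.map_surjective s
  letI : Algebra k K := φ.hom.toAlgebra
  letI : Algebra k Ω := ψ.hom.toAlgebra
  haveI : ConnectedSpace (PrimeSpectrum (K ⊗[k] Ω)) := GeomSep.connectedSpace_tensor (k := k) K Ω
  haveI : ConnectedSpace ↥(Spec (CommRingCat.of (K ⊗[k] Ω))) :=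
    inferInstanceAs (ConnectedSpace (PrimeSpectrum (K ⊗[k] Ω)))
  have e := Scheme.homeoOfIso (pullbackSpecIso k K Ω).symm
  exact e.surjective.connectedSpace e.continuous

theorem secPull_bijective_of_field {k K : Type u} [Field k] [Field K] [IsSepClosed k]
    (j : Spec (CommRingCat.of K) ⟶ Spec (CommRingCat.of k)) {P P' : Scheme.{u}}
    {p : P ⟶ Spec (CommRingCat.of k)} {p' : P' ⟶ Spec (CommRingCat.of K)} {b : P' ⟶ P}
    (h : IsPullback b p' p j) (G : EtDesc.Sh P) : Function.Bijective (EtDesc.secPull b G) := by
  obtain ⟨hj, hc⟩ := fields_submersive_connected j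
  have hb : EtDesc.IsUnivSubmersive b := by
    rw [show b = h.isoPullback.hom ≫ pullback.fst p j from h.isoPullback_hom_fst.symm]
    exact HenselConn.isUnivSubmersive_comp _ _ (HenselConn.isUnivSubmersive_of_integral _)
      (HenselConn.isUnivSubmersive_fst j hj _)
  refine HenselConn.secPull_bijective_of_connected b hb (fun Ω _ _ s => ?_) G
  haveI := hc Ω (s ≫ p)
  let e := ((IsPullback.of_hasPullback b s).flip.paste_vert h).flip.isoPullback
  exact (Scheme.homeoOfIso e.symm).surjective.connectedSpace (Scheme.homeoOfIso e.symm).continuous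

theorem bijective_app_iso {S : Scheme.{u}} {A B : EtDesc.Sh S} (α : A ≅ B) (U : S.Etale) :
    Function.Bijective (⇑(ConcreteCategory.hom (α.hom.hom.app (op U)))) := by
  haveI : IsIso α.hom.hom := inferInstanceAs (IsIso ((sheafToPresheaf _ _).map α.hom))
  exact (isIso_iff_bijective _).1 inferInstance

theorem bijective_of_comm {α β β' γ δ δ' : Type*} (F : α → β) (P₂ : β → β') (P₁ : β' → γ) (Q : α → δ)
    (R₂ : δ → δ') (R₁ : δ' → γ) (e : ∀ a, P₁ (P₂ (F a)) = R₁ (R₂ (Q a))) (hP₁ : Function.Bijective P₁)
    (hP₂ : Function.Bijective P₂) (hR₁ : Function.Bijective R₁) (hR₂ : Function.Bijective R₂)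
    (hQ : Function.Bijective Q) : Function.Bijective F := by
  have e' : (P₁ ∘ P₂) ∘ F = (R₁ ∘ R₂) ∘ Q := funext e
  exact (Function.Bijective.of_comp_iff' (hP₁.comp hP₂) F).1 (e' ▸ (hR₁.comp hR₂).comp hQ)

/-- Bijectivity of pullback of sections from a square. -/
theorem secPull_bijective_of_square {T T' P P' : Scheme.{u}} (hT : T' ⟶ T) (i : P ⟶ T) (i' : P' ⟶ T') (b : P' ⟶ P)
    (w : i' ≫ hT = b ≫ i) (hi : ∀ G : EtDesc.Sh T, Function.Bijective (EtDesc.secPull i G))
    (hi' : ∀ G : EtDesc.Sh T', Function.Bijective (EtDesc.secPull i' G))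
    (hb : ∀ G : EtDesc.Sh P, Function.Bijective (EtDesc.secPull b G)) (G : EtDesc.Sh T) :
    Function.Bijective (EtDesc.secPull hT G) :=
  bijective_of_comm (EtDesc.secPull hT G) (EtDesc.secPull i' ((EtDesc.pullSh hT).obj G))
    (⇑(ConcreteCategory.hom ((EtDesc.pullVia i' hT (b ≫ i) w G).hom.hom.app (op (EtCoh.top P')))))
    (EtDesc.secPull i G) (EtDesc.secPull b ((EtDesc.pullSh i).obj G))
    (⇑(ConcreteCategory.hom ((EtDesc.pullVia b i (b ≫ i) rfl G).hom.hom.app (op (EtCoh.top P')))))
    (fun s => (via_secPull i' hT (b ≫ i) w G s).trans (via_secPull b i (b ≫ i) rfl G s).symm)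
    (bijective_app_iso _ _) (hi' _) (bijective_app_iso _ _) (hb _) (hi G)

variable {A A' : Type u} [CommRing A] [CommRing A'] [HenselianLocalRing A] [HenselianLocalRing A']

/-- Sections are unchanged along a local map of strictly henselian rings for proper schemes. -/
theorem secPull_bijective_strict [IsSepClosed (ResidueField A)] (φ : A →+* A') [IsLocalHom φ]
    {T T' : Scheme.{u}} (p : T ⟶ Spec (CommRingCat.of A)) [IsProper p] (p' : T' ⟶ Spec (CommRingCat.of A'))
    (hT : T' ⟶ T) (hP : IsPullback hT p' p (Spec.map (CommRingCat.ofHom φ))) (G : EtDesc.Sh T) :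
    Function.Bijective (EtDesc.secPull hT G) := by
  haveI : IsProper p' := MorphismProperty.of_isPullback hP ‹IsProper p›
  let s : Spec (CommRingCat.of (ResidueField A)) ⟶ Spec (CommRingCat.of A) := Spec.map (CommRingCat.ofHom (residue A))
  let s' : Spec (CommRingCat.of (ResidueField A')) ⟶ Spec (CommRingCat.of A') := Spec.map (CommRingCat.ofHom (residue A'))
  let j : Spec (CommRingCat.of (ResidueField A')) ⟶ Spec (CommRingCat.of (ResidueField A)) :=
    Spec.map (CommRingCat.ofHom (ResidueField.map φ))
  have hjs : s' ≫ Spec.map (CommRingCat.ofHom φ) = j ≫ s := by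
    rw [← Spec.map_comp, ← Spec.map_comp]
    rfl
  haveI : IsClosedImmersion s := IsClosedImmersion.spec_of_surjective _ residue_surjective
  haveI : IsClosedImmersion s' := IsClosedImmersion.spec_of_surjective _ residue_surjective
  let i := pullback.fst p s
  let i' := pullback.fst p' s'
  let b : pullback p' s' ⟶ pullback p s := pullback.lift (i' ≫ hT) (pullback.snd p' s' ≫ j) (by
    rw [Category.assoc, hP.w, ← Category.assoc, pullback.condition, Category.assoc, Category.assoc, hjs])
  have hb : IsPullback b (pullback.snd p' s') (pullback.snd p s) j := by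
    refine IsPullback.of_right ?_ (pullback.lift_snd _ _ _) (IsPullback.of_hasPullback p s)
    rw [pullback.lift_fst, ← hjs]
    exact (IsPullback.of_hasPullback p' s').paste_horiz hP
  refine secPull_bijective_of_square hT i i' b (pullback.lift_fst _ _ _).symm (fun G => ?_) (fun G => ?_)
    (fun G => secPull_bijective_of_field j hb G) G
  · exact secPull_bijective_closed (maximalIdeal A) p i (ProperHenselConn.range_fst (maximalIdeal A) p) G
  · exact secPull_bijective_closed (maximalIdeal A') p' i' (ProperHenselConn.range_fst (maximalIdeal A') p') G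

end Groth.Agent.ProperBC13
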